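import Cfsg.Agent.J4Fus72.Tools

/-!
The symmetry of lying in each other's 2-core for two conjugates of the involution of a group of
Janko-four type.
-/

set_option autoImplicit false

namespace CfsgLib.J4Type67

open scoped Pointwise

universe u

variable {G : Type u} [Group G] [Finite G] {z : G}
  (d : Setup ↥(Subgroup.centralizer ({z} : Set G)))

/-- If a conjugate of the involution lies in the 2-core, the involution lies in the 2-core
belonging to the conjugate. -/
theorem exists_partner_mem (hdz : (d.z : G) = z) (g : G)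
    (hx : g * z * g⁻¹ ∈ Subgroup.centralizer ({z} : Set G))
    (hxE : (⟨g * z * g⁻¹, hx⟩ : ↥(Subgroup.centralizer ({z} : Set G))) ∈ d.E) :
    ∃ b : ↥(Subgroup.centralizer ({z} : Set G)), (b : G) = g⁻¹ * z * g ∧ b ∈ d.E := by
  classical
  haveI : Fact (Nat.Prime 2) := ⟨Nat.prime_two⟩
  have hzz : z * z = 1 := by rw [← hdz]; exact congrArg Subtype.val d.zz
  have hxc : g * z * g⁻¹ * z = z * (g * z * g⁻¹) := Subgroup.mem_centralizer_singleton_iff.1 hx
  have hbC : g⁻¹ * z * g ∈ Subgroup.centralizer ({z} : Set G) := by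
    rw [Subgroup.mem_centralizer_singleton_iff]
    calc g⁻¹ * z * g * z = g⁻¹ * (z * (g * z * g⁻¹)) * g := by group
      _ = g⁻¹ * (g * z * g⁻¹ * z) * g := by rw [hxc]
      _ = z * (g⁻¹ * z * g) := by group
  set x : ↥(Subgroup.centralizer ({z} : Set G)) := ⟨g * z * g⁻¹, hx⟩ with hxdef
  obtain ⟨b, hbdef⟩ : ∃ b : ↥(Subgroup.centralizer ({z} : Set G)), b = ⟨g⁻¹ * z * g, hbC⟩ :=
    ⟨_, rfl⟩
  have hbv : (b : G) = g⁻¹ * z * g := by rw [hbdef]
  have hb1 : b ≠ 1 := fun e => by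
    have : g⁻¹ * z * g = 1 := by rw [← hbv, e]; rfl
    refine d.zne (Subtype.ext (hdz.trans ?_))
    calc z = g * (g⁻¹ * z * g) * g⁻¹ := by group
      _ = 1 := by rw [this]; group
  set CX := d.E ⊓ Subgroup.centralizer ({x} : Set _) with hCX
  have hCXc : ∀ c : CX, g⁻¹ * (c : G) * g ∈ Subgroup.centralizer ({z} : Set G) := fun c => by
    have h : (c : G) * x = x * c :=
      congrArg Subtype.val (Subgroup.mem_centralizer_singleton_iff.1 c.2.2)
    rw [Subgroup.mem_centralizer_singleton_iff]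
    calc g⁻¹ * (c : G) * g * z = g⁻¹ * ((c : G) * x) * g := by
          show _ = g⁻¹ * ((c : G) * (g * z * g⁻¹)) * g
          group
      _ = g⁻¹ * (x * (c : G)) * g := by rw [h]
      _ = z * (g⁻¹ * (c : G) * g) := by
          show g⁻¹ * (g * z * g⁻¹ * (c : G)) * g = _
          group
  let φ : CX →* ↥(Subgroup.centralizer ({z} : Set G)) :=
    { toFun := fun c => ⟨g⁻¹ * (c : G) * g, hCXc c⟩
      map_one' := Subtype.ext (by simp)
      map_mul' := fun c c' => Subtype.ext (by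
        show g⁻¹ * ((c : G) * (c' : G)) * g = g⁻¹ * (c : G) * g * (g⁻¹ * (c' : G) * g)
        group) }
  have hφ : Function.Injective φ := fun c c' h => by
    have h' : g⁻¹ * (c : G) * g = g⁻¹ * (c' : G) * g := congrArg Subtype.val h
    exact Subtype.ext (Subtype.ext (mul_left_cancel (mul_right_cancel h')))
  have hφb : ∀ c : CX, c.1 = 1 ∨ c.1 = d.z → φ c = 1 ∨ φ c = b := by
    rintro c (h | h)
    · left
      rw [show c = 1 from Subtype.ext h, map_one]
    · right
      refine Subtype.ext ?_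
      show g⁻¹ * (c : G) * g = b
      rw [h, hdz, hbv]
  set A := φ.range with hA
  have hCXcard : 4096 ≤ Nat.card CX := by
    let δ : d.E →* ↥(Subgroup.centralizer ({z} : Set G)) :=
      { toFun := fun e => e.1 * x * e.1⁻¹ * x⁻¹
        map_one' := by simp
        map_mul' := fun e e' => by
          show e.1 * e'.1 * x * (e.1 * e'.1)⁻¹ * x⁻¹ =
            e.1 * x * e.1⁻¹ * x⁻¹ * (e'.1 * x * e'.1⁻¹ * x⁻¹)
          rcases d.commE e'.1 e'.2 x hxE with h | h
          · rw [h, mul_one, show e.1 * e'.1 * x * (e.1 * e'.1)⁻¹ * x⁻¹ =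
              e.1 * (e'.1 * x * e'.1⁻¹ * x⁻¹) * x * e.1⁻¹ * x⁻¹ by group, h, mul_one]
          · rw [h, show e.1 * e'.1 * x * (e.1 * e'.1)⁻¹ * x⁻¹ =
              e.1 * (e'.1 * x * e'.1⁻¹ * x⁻¹) * x * e.1⁻¹ * x⁻¹ by group, h,
              ← (d.zc e.1).eq, ← (d.zc (e.1 * x * e.1⁻¹ * x⁻¹)).eq]
            group }
    have h := Subgroup.card_mul_index δ.ker
    rw [Subgroup.index_ker, d.cardE] at h
    have h2 : Nat.card δ.range ≤ 2 := by
      rw [← d.card_Z]
      refine Subgroup.card_le_of_le ?_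
      rintro _ ⟨e, rfl⟩
      exact d.commE' e.2 hxE
    have h3 : Nat.card δ.ker ≤ Nat.card CX := Nat.card_le_card_of_injective
      (fun e => (⟨e.1.1, e.1.2, Subgroup.mem_centralizer_singleton_iff.2
        (mul_inv_eq_iff_eq_mul.1 (mul_inv_eq_one.1 e.2))⟩ : CX))
      fun e e' he => Subtype.ext (Subtype.ext (congrArg Subtype.val he :))
    by_contra hlt
    push_neg at hlt
    have : Nat.card δ.ker * Nat.card δ.range ≤ 4095 * 2 := Nat.mul_le_mul (by omega) h2
    omega
  have hAcard : 4096 ≤ Nat.card A :=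
    hCXcard.trans (le_of_eq (Nat.card_congr (MonoidHom.ofInjective hφ).toEquiv))
  have hAp : IsPGroup 2 A := by
    rw [hA, MonoidHom.range_eq_map]
    exact (((d.pgroupE.to_le inf_le_left : IsPGroup 2 CX).to_subgroup ⊤).map φ)
  obtain ⟨T, hAT⟩ := hAp.exists_le_sylow
  have hmapA : Nat.card (A.map d.π) ≤ 256 := by
    rw [← d.card_map_sylow T]
    exact Subgroup.card_le_of_le (Subgroup.map_mono hAT)
  have hprod := d.card_eq_map_mul T hAT
  have hAcomm : ∀ a ∈ A, ∀ a' ∈ A,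
      a * a' * a⁻¹ * a'⁻¹ = 1 ∨ a * a' * a⁻¹ * a'⁻¹ = b := by
    rintro _ ⟨c, rfl⟩ _ ⟨c', rfl⟩
    rw [← map_inv, ← map_inv, ← map_mul, ← map_mul, ← map_mul]
    exact hφb _ (d.commE c.1 c.2.1 c'.1 c'.2.1)
  have hAsq : ∀ a ∈ A, a * a = 1 ∨ a * a = b := by
    rintro _ ⟨c, rfl⟩
    rw [← map_mul]
    exact hφb _ (d.sqE c.1 c.2.1)
  -- the partner lies in the 2-core
  have hbE : b ∈ d.E := by
    by_contra hbE
    have hcent : ∀ a ∈ A ⊓ d.E, ∀ a' ∈ A, a * a' = a' * a := by
      intro a ha a' ha'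
      have hm : a * a' * a⁻¹ * a'⁻¹ ∈ d.E := by
        rw [show a * a' * a⁻¹ * a'⁻¹ = a * (a' * a⁻¹ * a'⁻¹) by group]
        exact mul_mem ha.2 (d.normalE _ _ (inv_mem ha.2))
      rcases hAcomm a ha.1 a' ha' with h | h
      · exact mul_inv_eq_iff_eq_mul.1 (mul_inv_eq_one.1 h)
      · exact absurd (h ▸ hm) hbE
    set K := CX ⊓ Subgroup.centralizer (CX : Set ↥(Subgroup.centralizer ({z} : Set G))) with hK
    have hle : A ⊓ d.E ≤ (K.subgroupOf CX).map φ := by
      rintro a ⟨⟨c, rfl⟩, haE⟩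
      refine ⟨c, ⟨c.2, Subgroup.mem_centralizer_iff.2 fun c' hc' => ?_⟩, rfl⟩
      have h := hcent (φ c) ⟨⟨c, rfl⟩, haE⟩ (φ ⟨c', hc'⟩) ⟨_, rfl⟩
      rw [← map_mul, ← map_mul] at h
      exact (congrArg Subtype.val (hφ h)).symm
    have hK4 : Nat.card K ≤ 4 := by
      have hzK : d.z ∈ K := ⟨⟨d.zmem, Subgroup.mem_centralizer_singleton_iff.2 (d.zc x).eq⟩,
        Subgroup.mem_centralizer_iff.2 fun y _ => (d.zc y).eq.symm⟩
      have h := d.card_centralizer_eq (U := K) (fun y hy => hy.1.1) hzK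
      have hCXle : CX ≤ d.E ⊓ Subgroup.centralizer (K : Set _) := fun y hy =>
        ⟨hy.1, Subgroup.mem_centralizer_iff.2 fun k hk =>
          (Subgroup.mem_centralizer_iff.1 hk.2 y hy).symm⟩
      have h2 := Nat.mul_le_mul_left (Nat.card K) (hCXcard.trans (Subgroup.card_le_of_le hCXle))
      rw [h] at h2
      omega
    have h := (Subgroup.card_le_of_le hle).trans (le_of_eq
      ((Subgroup.card_map_of_injective hφ).trans
        (Nat.card_congr (Subgroup.subgroupOfEquivOfLe (inf_le_left : K ≤ CX)).toEquiv)))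
    have h4 : Nat.card A ≤ 256 * 4 := by
      rw [hprod]; exact Nat.mul_le_mul hmapA (h.trans hK4)
    omega
  exact ⟨b, hbv, hbE⟩

end CfsgLib.J4Type67
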